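import Mathlib

/-! Closed points of fibres. -/

set_option autoImplicit false
universe u

open AlgebraicGeometry CategoryTheory Limits TopologicalSpace

namespace Groth.Agent.FibrePts

variable {X S : Scheme.{u}}

theorem isClosed_asFiber_of_isIntegralHom (f : X ⟶ S) (x : X)
    (h : IsIntegralHom (Spec.map (f.residueFieldMap x))) :
    IsClosed ({f.asFiber x} : Set ↑(f.fiber (f x))) := by
  rw [← closure_eq_iff_isClosed]
  refine Set.Subset.antisymm (fun w hw => ?_) subset_closure
  obtain ⟨W, hW, hwW, -⟩ := exists_isAffineOpen_mem_and_subset (U := ⊤) (Opens.mem_top w)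
  haveI : IsAffine W.toScheme := hW
  have hpW : f.asFiber x ∈ W := (specializes_iff_mem_closure.mpr hw).mem_open W.2 hwW
  let l := IsOpenImmersion.lift W.ι (f.asFiberHom x) (by simp [hpW])
  haveI : IsIntegralHom (l ≫ (W.ι ≫ f.fiberToSpecResidueField (f x))) := by
    rw [← Category.assoc, IsOpenImmersion.lift_fac, Scheme.Hom.asFiberHom_fiberToSpecResidueField]
    exact h
  haveI : IsIntegralHom l := IsIntegralHom.of_comp l (W.ι ≫ f.fiberToSpecResidueField (f x))
  have hl : IsClosed (Set.range l) := l.isClosedMap.isClosed_range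
  have hp : ∀ t, W.ι (l t) = f.asFiber x := fun t =>
    (Scheme.Hom.comp_apply _ _ _).symm.trans ((congrArg (fun k : _ ⟶ f.fiber (f x) => k t)
      (IsOpenImmersion.lift_fac _ _ _)).trans (f.asFiberHom_apply x t))
  obtain ⟨w', rfl⟩ : w ∈ Set.range W.ι := by rw [Scheme.Opens.range_ι]; exact hwW
  obtain ⟨t⟩ := (inferInstance : Nonempty ↥(Spec (X.residueField x)))
  have hs : l t ⤳ w' := W.ι.isOpenEmbedding.isInducing.specializes_iff.mp
    ((hp t).symm ▸ specializes_iff_mem_closure.mpr hw)
  obtain ⟨t', rfl⟩ := hs.mem_closed hl ⟨t, rfl⟩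
  exact hp t'

theorem isClosed_asFiber_iff (f : X ⟶ S) [LocallyOfFiniteType f] (x : X) :
    IsClosed ({f.asFiber x} : Set ↑(f.fiber (f x))) ↔ (f.residueFieldMap x).hom.Finite := by
  refine ⟨fun h => ?_, fun h => ?_⟩
  · haveI : IsClosedImmersion (f.asFiberHom x) :=
      .of_isPreimmersion _ (by rw [Scheme.Hom.range_asFiberHom]; exact h)
    haveI : LocallyOfFiniteType (f.fiberToSpecResidueField (f x)) :=
      MorphismProperty.pullback_snd _ _ inferInstance
    have h1 : LocallyOfFiniteType (Spec.map (f.residueFieldMap x)) := by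
      rw [← Scheme.Hom.asFiberHom_fiberToSpecResidueField]; infer_instance
    rw [HasRingHomProperty.Spec_iff (P := @LocallyOfFiniteType)] at h1
    algebraize [(f.residueFieldMap x).hom]
    exact finite_of_finite_type_of_isJacobsonRing (S.residueField (f x)) (X.residueField x)
  · refine isClosed_asFiber_of_isIntegralHom f x ?_
    rw [IsIntegralHom.SpecMap_iff]
    exact h.to_isIntegral

/-- A locally noetherian scheme all of whose points are closed is discrete. -/
theorem discreteTopology_of_isClosed_singleton (F : Scheme.{u}) [IsLocallyNoetherian F]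
    (h : ∀ p : F, IsClosed ({p} : Set F)) : DiscreteTopology F := by
  haveI : T1Space F := ⟨h⟩
  refine discreteTopology_iff_isOpen_singleton.mpr fun p => ?_
  obtain ⟨W, hW, hpW, -⟩ := exists_isAffineOpen_mem_and_subset (U := ⊤) (Opens.mem_top p)
  haveI := IsLocallyNoetherian.component_noetherian (X := F) ⟨W, hW⟩
  have hfin : (W : Set F).Finite := by
    rw [← hW.range_fromSpec]
    haveI : T1Space (PrimeSpectrum Γ(F, W)) :=
      t1Space_of_injective_of_continuous hW.fromSpec.isOpenEmbedding.injective hW.fromSpec.continuous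
    haveI : Finite (PrimeSpectrum Γ(F, W)) := by
      haveI := (minimalPrimes.finite_of_isNoetherianRing Γ(F, W)).to_subtype
      refine Finite.of_surjective
        (fun q : minimalPrimes Γ(F, W) => (⟨q.1, q.2.1.1⟩ : PrimeSpectrum Γ(F, W))) fun q => ?_
      obtain ⟨q₀, hq₀, hle⟩ := Ideal.exists_minimalPrimes_le (show (⊥ : Ideal _) ≤ q.asIdeal from bot_le)
      have hmax := (PrimeSpectrum.isClosed_singleton_iff_isMaximal
        (⟨q₀, hq₀.1.1⟩ : PrimeSpectrum Γ(F, W))).mp isClosed_singleton
      exact ⟨⟨q₀, hq₀⟩, PrimeSpectrum.ext (hmax.eq_of_le q.2.ne_top hle)⟩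
    exact @Set.finite_range _ _ _ (inferInstanceAs (Finite (PrimeSpectrum Γ(F, W))))
  have hop : IsOpen ((W : Set F) \ ((W : Set F) \ {p})) :=
    W.2.sdiff (hfin.subset Set.sdiff_subset).isClosed
  convert hop using 1
  ext z
  simp only [Set.mem_singleton_iff, Set.mem_sdiff]
  exact ⟨fun hz => ⟨hz ▸ hpW, fun h => h.2 hz⟩, fun ⟨h1, h2⟩ => by_contra fun hz => h2 ⟨h1, hz⟩⟩

end Groth.Agent.FibrePts
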